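import Cfsg.Agent.Lib.Char.FewSylow.QPower.Facts
import Cfsg.Agent.Lib.Char.FewSylow.QPower.ThreePrimes
import Cfsg.Agent.Lib.Char.FeitBlichfeldt
import Cfsg.Agent.Lib.Char.Scalar
import Cfsg.Agent.Lib.Char.Burnside
import Cfsg.Agent.Lib.Char.InducedSet
import Cfsg.Agent.S4500

/-!
# Small degrees in simple groups of order divisible by three primes
-/

set_option autoImplicit false
set_option linter.unusedSectionVars false
set_option linter.style.haveILetI false

namespace CfsgLib.Char.SmallCofactor

open Cfsg CfsgLib.Char CfsgLib.Block CfsgLib.Char.FewSylow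

universe u

variable {G : Type u} [Group G] [Finite G] [IsSimpleGroup G]

theorem deg_eq (f : IrrCharacter G) : (f : G → ℂ) 1 = (deg f : ℂ) := (Block.charDegree_eq f).1

/-- Two primes are not enough. -/
theorem three_primes (hG : ¬ IsCyclic G) {s t : ℕ} (hs : s.Prime) (ht : t.Prime) (i j : ℕ) :
    Nat.card G ≠ s ^ i * t ^ j := fun h => by
  haveI := isSolvable_of_card_two_primes hs ht G i j h
  have hperf := perfect_of_simple hG
  haveI : Nontrivial G := inferInstance
  exact (Group.IsSolvable.commutator_lt_top_of_nontrivial G).ne hperf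

/-- For an abelian Sylow `p`-subgroup `P` a degree that is a power of `p` is divisible by `|P|`. -/
theorem card_dvd_degree (hG : ¬ IsCyclic G) {p k : ℕ} [Fact p.Prime] (P : Sylow p G)
    (hab : ∀ a ∈ (P : Subgroup G), ∀ b ∈ (P : Subgroup G), a * b = b * a) {f : IrrCharacter G}
    (hf : f ≠ Block.oneChar G) (hk : deg f = p ^ k) : Nat.card P ∣ p ^ k := by
  classical
  letI := Fintype.ofFinite G
  letI : Fintype (P : Subgroup G) := Fintype.ofFinite _
  have hp : p.Prime := Fact.out
  have hzero : ∀ y : (P : Subgroup G), y ≠ 1 → (f : G → ℂ) (y : G) = 0 := by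
    intro y hy
    refine QPower.value_eq_zero_of_coprime (perfect_of_simple hG) hf
      (fun e => hy (Subtype.ext e)) ?_
    rw [hk]
    refine Nat.Coprime.pow_left k (hp.coprime_iff_not_dvd.mpr fun h => ?_)
    exact P.not_dvd_index (h.trans (Subgroup.index_dvd_of_le fun a ha =>
      Subgroup.mem_centralizer_singleton_iff.mpr (hab a ha _ y.2)))
  obtain ⟨c, hc⟩ := classInner_isCharacter
    (isCharacter_comp (isCharacter_irr f) (P : Subgroup G).subtype)
    (isCharacter_irr (Block.oneChar (P : Subgroup G)))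
  rw [classInner, Finset.sum_eq_single 1 (fun y _ hy => by
      show (f : G → ℂ) ((P : Subgroup G).subtype y) * _ = 0
      rw [Subgroup.subtype_apply, hzero y hy, zero_mul])
    (fun h => absurd (Finset.mem_univ _) h)] at hc
  simp only [map_one, deg_eq, hk] at hc
  have h1 : ((Block.oneChar (P : Subgroup G) : IrrCharacter (P : Subgroup G)) :
      ↥(P : Subgroup G) → ℂ) 1 = 1 := rfl
  rw [h1, map_one, mul_one, inv_mul_eq_iff_eq_mul₀ (Nat.cast_ne_zero.mpr Nat.card_pos.ne')] at hc
  exact ⟨c, by exact_mod_cast hc⟩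

/-- A non-principal character has degree above one. -/
theorem one_lt_deg (hG : ¬ IsCyclic G) {f : IrrCharacter G} (hf : f ≠ Block.oneChar G) :
    1 < deg f := by
  classical
  letI := Fintype.ofFinite G
  have h0 := deg_pos f
  by_contra h
  exact hf (hlin_of_perfect (perfect_of_simple hG) (by omega))

theorem deg_sq_le (f : IrrCharacter G) : deg f ^ 2 ≤ Nat.card G := by
  classical
  letI := Fintype.ofFinite G
  have h := card_mul_degree_sq_le f (⊥ : Subgroup G) (fun d hd x => by
    rw [Subgroup.mem_bot] at hd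
    simp [hd]) (deg_eq f)
  simpa using h

/-- A character of faithful kind. -/
theorem faithful {f : IrrCharacter G} (hf : f ≠ Block.oneChar G) (g : G)
    (h : (f : G → ℂ) g = (f : G → ℂ) 1) : g = 1 := by
  classical
  letI := Fintype.ofFinite G
  exact eq_one_of_value_eq_deg hf (h.trans (deg_eq f))

/-- With exponent at most two for `p`, the prime `t` gives a degree `tᶜ`, if its Sylow subgroups
are abelian. -/
theorem exists_deg_pow (hG : ¬ IsCyclic G) {p s t a b c : ℕ} (hp : p.Prime) (hs : s.Prime)
    (ht : t.Prime) (hps : p ≠ s) (hpt : p ≠ t) (hst : s ≠ t) (ha : a ≤ 2)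
    (hcard : Nat.card G = p ^ a * s ^ b * t ^ c)
    (hab : ∀ (R : Sylow t G), ∀ x ∈ (R : Subgroup G), ∀ y ∈ (R : Subgroup G), x * y = y * x) :
    ∃ f : IrrCharacter G, f ≠ Block.oneChar G ∧ deg f = t ^ c := by
  classical
  letI := Fintype.ofFinite G
  haveI := Fintype.ofFinite (IrrCharacter G)
  haveI : Fact t.Prime := ⟨ht⟩
  obtain ⟨-, χ, hχ, k, hk⟩ :=
    Cfsg.Agent.S4500.result p s t a b c hp hs ht hps hpt hst ha hcard
  have hne : χ ≠ Block.oneChar G := fun h => hχ (by rw [h]; rfl)
  have hf : (Nat.card G).factorization t = c := by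
    have hco : Nat.Coprime t (p ^ a * s ^ b) := Nat.Coprime.mul_right
      (((Nat.coprime_primes ht hp).mpr hpt.symm).pow_right a)
      (((Nat.coprime_primes ht hs).mpr hst.symm).pow_right b)
    rw [hcard, Nat.factorization_mul (mul_ne_zero (pow_ne_zero _ hp.ne_zero)
      (pow_ne_zero _ hs.ne_zero)) (pow_ne_zero _ ht.ne_zero), Finsupp.add_apply,
      Nat.factorization_eq_zero_of_not_dvd (ht.coprime_iff_not_dvd.mp hco), zero_add,
      ht.factorization_pow, Finsupp.single_eq_same]
  refine ⟨χ, hne, Nat.dvd_antisymm ?_ ?_⟩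
  · rw [← hf]
    exact (Nat.dvd_prime_pow ht).mpr ⟨k, (Nat.Prime.pow_dvd_iff_le_factorization ht
      Nat.card_pos.ne').mp (hk ▸ (Block.charDegree_dvd χ)), hk⟩
  · have h := card_dvd_degree hG (default : Sylow t G) (hab _) hne hk
    rw [(default : Sylow t G).card_eq_multiplicity, hf] at h
    exact h.trans (dvd_of_eq hk.symm)

/-- A `p`-subgroup of a simple group with a faithful character of degree `p` is abelian. -/
theorem abelian_of_deg_eq (hG : ¬ IsCyclic G) {p : ℕ} [Fact p.Prime] {f : IrrCharacter G}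
    (hf : f ≠ Block.oneChar G) (hd : deg f = p) (P : Subgroup G) (hP : IsPGroup p P) :
    ∀ a ∈ P, ∀ b ∈ P, a * b = b * a := by
  classical
  letI := Fintype.ofFinite G
  letI : Fintype P := Fintype.ofFinite _
  have hp : p.Prime := Fact.out
  intro a ha b hb
  have hres : IsCharacter P fun x : P => (f : G → ℂ) x :=
    isCharacter_comp (isCharacter_irr f) P.subtype
  by_cases hirr : ∃ ψ : IrrCharacter P, classInner (fun x : P => (f : G → ℂ) x) (ψ : P → ℂ) ≠ 0 ∧
      charDegree (ψ : P → ℂ) = p
  · -- the restriction is irreducible, so the centre is scalar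
    exfalso
    obtain ⟨ψ, hψ, hψd⟩ := hirr
    have he := (degree_le_of_constituent hres ψ hψ (a := p)
      (by simp [deg_eq, hd]) ((Block.charDegree_eq ψ).1.trans (by rw [hψd]))).2 rfl
    haveI : Nontrivial P := by
      by_contra hnt
      rw [not_nontrivial_iff_subsingleton] at hnt
      have h1 := degree_dvd_card ψ (Block.charDegree_eq ψ).1
      rw [hψd, Nat.card_of_subsingleton (1 : P)] at h1
      exact hp.ne_one (Nat.dvd_one.mp h1)
    haveI := hP.center_nontrivial
    obtain ⟨z, hz⟩ := exists_ne (1 : Subgroup.center P)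
    obtain ⟨m, ρ, hρ, hc⟩ := ψ.2
    haveI := hρ
    obtain ⟨ω, hω⟩ := exists_scalar_of_mem_center ρ z.2
    have hn : ‖(f : G → ℂ) ((z : P) : G)‖ = (p : ℝ) := by
      rw [show (f : G → ℂ) ((z : P) : G) = ρ.character (z : P) by rw [hc, ← he],
        (norm_char_eq_iff ρ _).mpr ⟨ω, hω⟩]
      have h1 := (Block.charDegree_eq ψ).1
      rw [hψd, ← hc, Representation.char_one] at h1
      exact_mod_cast h1
    obtain ⟨m', ρ', hρ', hc'⟩ := f.2
    have hm' : (Module.finrank ℂ (Fin m' → ℂ) : ℂ) = (p : ℂ) := by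
      rw [← Representation.char_one ρ', hc', deg_eq, hd]
    have hm'' : Module.finrank ℂ (Fin m' → ℂ) = p := by exact_mod_cast hm'
    obtain ⟨ω', hω'⟩ := (norm_char_eq_iff ρ' ((z : P) : G)).mp (by rw [hc', hn, hm''])
    have hcomm : ∀ x : G, x * ((z : P) : G) = ((z : P) : G) * x := by
      intro x
      refine mul_inv_eq_one.mp (faithful hf _ ?_)
      rw [← hc']
      show LinearMap.trace ℂ _ (ρ' _) = LinearMap.trace ℂ _ (ρ' 1)
      have h2 : ρ' (x * ((z : P) : G)) = ρ' (((z : P) : G) * x) := by
        rw [map_mul, map_mul, hω']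
        exact LinearMap.ext fun v => by simp
      rw [map_mul, h2, ← map_mul, mul_inv_cancel]
    have hzc : ((z : P) : G) ∈ Subgroup.center G := Subgroup.mem_center_iff.mpr hcomm
    rw [QPower.center_eq_bot_of_perfect (perfect_of_simple hG), Subgroup.mem_bot] at hzc
    exact hz (Subtype.ext (Subtype.ext hzc))
  · push Not at hirr
    let a' : P := ⟨a, ha⟩
    let b' : P := ⟨b, hb⟩
    have hval : (f : G → ℂ) ((a' * b' * a'⁻¹ * b'⁻¹ : P) : G) = (f : G → ℂ) ((1 : P) : G) := by
      refine LinearSylow.eq_one_value (f := fun x : P => (f : G → ℂ) x)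
        (isClassFunction_of_isCharacter hres) fun ψ hψ => ?_
      obtain ⟨j, hj⟩ := IsPGroup.iff_card.1 hP
      obtain ⟨i, -, hi⟩ := (Nat.dvd_prime_pow hp).1
        (hj ▸ degree_dvd_card ψ (Block.charDegree_eq ψ).1)
      have hle := (degree_le_of_constituent hres ψ hψ (a := p)
        (by simp [deg_eq, hd]) (Block.charDegree_eq ψ).1).1
      have h1 : (ψ : P → ℂ) 1 = 1 := by
        rw [(Block.charDegree_eq ψ).1, hi]
        rcases i with _ | _ | i
        · simp
        · exact absurd (by rw [hi, zero_add, pow_one]) (hirr ψ hψ)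
        · rw [hi] at hle
          have : p ^ 2 ≤ p := le_trans (Nat.pow_le_pow_right hp.pos (by omega)) hle
          nlinarith [hp.two_le]
      obtain ⟨l, hl⟩ := exists_hom_of_linear (isCharacter_irr ψ) h1
      rw [hl]
      simp only [map_mul, map_inv]
      congr 1
      rw [mul_comm (l a') (l b'), mul_inv_cancel_right, mul_inv_cancel, map_one]
    have hc := faithful hf (a * b * a⁻¹ * b⁻¹) (by simpa [a', b'] using hval)
    calc a * b = a * b * a⁻¹ * b⁻¹ * (b * a) := by group
      _ = b * a := by rw [hc, one_mul]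

end CfsgLib.Char.SmallCofactor
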