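import Cfsg.Agent.Lib.Char.SmallCofactor.Large
import Cfsg.Agent.Lib.Invol.SimpleSixty
import Cfsg.Agent.S0948
import Cfsg.Agent.S4480

/-!
# Simple groups of order `4 · 3ᶜ rᵈ` with `c ≤ 2` or `d ≤ 2`
-/

set_option autoImplicit false
set_option linter.unusedSectionVars false
set_option linter.style.haveILetI false

namespace CfsgLib.Char.SmallCofactor

open Cfsg CfsgLib.Char CfsgLib.Block CfsgLib.Char.FewSylow

universe u

variable {G : Type u} [Group G] [Finite G] [IsSimpleGroup G]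

/-- An odd divisor. -/
theorem odd_dvd {c d n : ℕ} (hn : n ∣ 4 * 3 ^ c * 5 ^ d) (ho : ¬ 2 ∣ n) :
    ∃ i j, j ≤ d ∧ n = 3 ^ i * 5 ^ j := by
  have h1 : n ∣ 3 ^ c * 5 ^ d := by
    refine (Nat.Coprime.dvd_of_dvd_mul_left ?_ (by rwa [mul_assoc] at hn))
    exact Nat.Coprime.pow_right 2 ((Nat.prime_two.coprime_iff_not_dvd.mpr ho).symm)
  obtain ⟨x, z, hx, hz, rfl⟩ := Nat.dvd_mul.mp h1
  obtain ⟨i, -, rfl⟩ := (Nat.dvd_prime_pow Nat.prime_three).mp hx
  obtain ⟨j, hj, rfl⟩ := (Nat.dvd_prime_pow Nat.prime_five).mp hz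
  exact ⟨i, j, hj, rfl⟩

theorem five_pow_mod (j : ℕ) : 5 ^ j % 4 = 1 := by
  induction j with
  | zero => rfl
  | succ k ih => rw [pow_succ, Nat.mul_mod, ih]

/-- The degrees that are `-1` modulo four are divisible by three. -/
theorem three_dvd {c d n : ℕ} (hn : n ∣ 4 * 3 ^ c * 5 ^ d) (h4 : n % 4 = 3) : 3 ∣ n := by
  obtain ⟨i, j, -, rfl⟩ := odd_dvd hn (fun h => by omega)
  rcases i with _ | i
  · rw [pow_zero, one_mul, five_pow_mod] at h4
    omega
  · exact dvd_mul_of_dvd_left (dvd_pow_self 3 i.succ_ne_zero) _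

/-- The principal block at two gives a character of degree three. -/
theorem exists_deg_three (hG : ¬ IsCyclic G) {c d : ℕ} (hd : d ≤ 2)
    (hcard : Nat.card G = 4 * 3 ^ c * 5 ^ d) :
    ∃ f : IrrCharacter G, f ≠ Block.oneChar G ∧ deg f = 3 := by
  classical
  letI := Fintype.ofFinite G
  haveI : Fact (Nat.Prime 2) := ⟨Nat.prime_two⟩
  haveI := Fintype.ofFinite (IrrCharacter G)
  obtain ⟨P⟩ := (inferInstance : Nonempty (Sylow 2 G))
  have hodd : Odd (3 ^ c * 5 ^ d) :=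
    Odd.mul (Odd.pow (by decide)) (Odd.pow (by decide))
  have hcard' : Nat.card G = 4 * (3 ^ c * 5 ^ d) := by rw [hcard, mul_assoc]
  have hnc : ¬ ∃ N : Subgroup G, N.Normal ∧ Nat.card N = 3 ^ c * 5 ^ d := by
    rintro ⟨N, hN, hNc⟩
    rcases hN.eq_bot_or_eq_top with h | h
    · rw [h, Subgroup.card_bot] at hNc
      exact three_primes hG Nat.prime_two Nat.prime_two 2 0 (by rw [hcard', ← hNc]; rfl)
    · rw [h, Subgroup.card_top, hcard'] at hNc
      have := pos_of_gt (hodd.pos)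
      omega
  obtain ⟨hK, hone⟩ := klein_of_no_complement _ hodd hcard' hnc P
  obtain ⟨M, hM⟩ := CfsgLib.Block.exists_pModular Nat.prime_two
  haveI := hM.2.1
  obtain ⟨z₂, z₃, z₄, ε, hε, h2, h3, h23, h24, h34, hB, hval, hc2, hc3, hc4, horth⟩ :=
    Cfsg.Agent.S0948.result M hM P hK hone
  have hne : ∀ z : IrrCharacter G, (z : G → ℂ) ≠ (fun _ => 1) → z ≠ Block.oneChar G :=
    fun z hz e => hz (by rw [e]; rfl)
  obtain ⟨J, hJ2, hJP⟩ : ∃ J : G, orderOf J = 2 ∧ J ∈ (P : Subgroup G) := by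
    obtain ⟨y, hy⟩ := exists_prime_orderOf_dvd_card' (G := (P : Subgroup G)) 2
      (by rw [hK.card_four]; norm_num)
    exact ⟨y, by rw [Subgroup.orderOf_coe, hy], y.2⟩
  change (4 : ℤ) ∣ (deg z₂ : ℤ) - 1 at hc2
  change (4 : ℤ) ∣ (deg z₃ : ℤ) - ε at hc3
  change (4 : ℤ) ∣ (deg z₄ : ℤ) + 1 at hc4
  have h4 : (z₄ : G → ℂ) ≠ (fun _ => 1) := fun e => by
    have := (hval J hJ2).2.2
    rw [e] at this
    norm_num at this
  have hsum : (1 : ℤ) + deg z₂ + ε * deg z₃ - deg z₄ = 0 := by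
    have h := horth 1 (by simp)
    rw [deg_eq, deg_eq, deg_eq] at h
    exact_mod_cast h
  have hx := one_lt_deg hG (hne _ h2)
  have hy := one_lt_deg hG (hne _ h3)
  have hz := one_lt_deg hG (hne _ h4)
  have hdiv : ∀ f : IrrCharacter G, deg f ∣ 4 * 3 ^ c * 5 ^ d := fun f =>
    hcard ▸ Block.charDegree_dvd f
  rcases hε with rfl | rfl
  · -- two signs `+`: impossible
    exfalso
    have hs := exists_kleinSums hM P hK hone hJP hJ2 hB h2 h3 h4 h23 h24 h34
      (e₁ := 1) (e₂ := 1) (e₃ := -1) (by rw [(hval J hJ2).1]; norm_num)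
      (by rw [(hval J hJ2).2.1]) (by rw [(hval J hJ2).2.2]; norm_num)
    have hxy : deg z₂ = deg z₃ := (hs.pair rfl rfl (by norm_num)).2
    obtain ⟨m, -, hm⟩ := Cfsg.Agent.S4480.result M hM _ hodd hcard' hnc P J hJP hJ2 z₂ z₃ z₄
      1 1 (-1) hB ⟨h2, h3, h4, h23, h24, h34⟩ ⟨Or.inl rfl, Or.inl rfl, Or.inr rfl⟩
      ⟨by rw [(hval J hJ2).1]; norm_num, by rw [(hval J hJ2).2.1],
        by rw [(hval J hJ2).2.2]; norm_num⟩ (by norm_num) rfl
    have ez : charDegree (z₄ : G → ℂ) = deg z₄ := rfl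
    rw [ez] at hm
    set x := deg z₂ with hxdef
    set z := deg z₄ with hzdef
    have hzx : z = 2 * x + 1 := by omega
    have hz3 : 3 ∣ z := three_dvd (hdiv z₄) (by omega)
    obtain ⟨i, j, -, hxij⟩ := odd_dvd (hdiv z₂) (fun h => by omega)
    have hi : i = 0 := by
      by_contra hi
      have : 3 ∣ x := hxdef ▸ hxij ▸ dvd_mul_of_dvd_left (dvd_pow_self 3 hi) _
      omega
    have hj : j ≠ 0 := fun hj => by rw [← hxdef, hi, hj] at hxij; omega
    have h5x : 5 ∣ x := hxdef ▸ hxij ▸ dvd_mul_of_dvd_right (dvd_pow_self 5 hj) _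
    have hd1 : x + 1 ∣ 8 * Nat.card G := by
      rw [hm]
      refine dvd_mul_of_dvd_right ?_ _
      have h3 : z ^ 3 - z = z * ((z + 1) * (z - 1)) := by
        rw [← Nat.sq_sub_sq, Nat.mul_sub, ← pow_succ', one_pow, mul_one]
      rw [h3]
      refine dvd_mul_of_dvd_right (dvd_mul_of_dvd_left ⟨2, by omega⟩ _) _
    have hco : Nat.Coprime (x + 1) (3 ^ c * 5 ^ d) := by
      refine Nat.Coprime.mul_right (Nat.Coprime.pow_right _ ?_) (Nat.Coprime.pow_right _ ?_)
      · exact (Nat.prime_three.coprime_iff_not_dvd.mpr (by omega)).symm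
      · exact (Nat.prime_five.coprime_iff_not_dvd.mpr (by omega)).symm
    have hd2 : x + 1 ∣ 32 := hco.dvd_of_dvd_mul_right (by rw [hcard'] at hd1; simpa [← mul_assoc] using hd1)
    obtain ⟨k, hk, hk'⟩ := (Nat.dvd_prime_pow (m := 5) Nat.prime_two).mp (by norm_num; exact hd2)
    interval_cases k <;> omega
  · -- one sign `+`
    refine ⟨z₃, hne _ h3, ?_⟩
    have hy3 : 3 ∣ deg z₃ := three_dvd (hdiv z₃) (by omega)
    have hz3 : 3 ∣ deg z₄ := three_dvd (hdiv z₄) (by omega)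
    obtain ⟨i, j, hj, hxij⟩ := odd_dvd (hdiv z₂) (fun h => by omega)
    have hi : i = 0 := by
      by_contra hi
      have : 3 ∣ deg z₂ := hxij ▸ dvd_mul_of_dvd_left (dvd_pow_self 3 hi) _
      omega
    rw [hi, pow_zero, one_mul] at hxij
    have hj2 : j ≤ 2 := hj.trans hd
    interval_cases j <;> omega

/-- Simple groups of order `4 · 3ᶜ rᵈ`, `c ≤ 2` or `d ≤ 2`. -/
theorem card_eq_sixty (hG : ¬ IsCyclic G) {c d r : ℕ} (hr : r.Prime) (hr2 : r ≠ 2) (hr3 : r ≠ 3)
    (hcd : c ≤ 2 ∨ d ≤ 2) (hcard : Nat.card G = 4 * 3 ^ c * r ^ d) : Nat.card G = 60 := by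
  classical
  letI := Fintype.ofFinite G
  haveI : Fact r.Prime := ⟨hr⟩
  haveI : Fact (Nat.Prime 2) := ⟨Nat.prime_two⟩
  haveI : Fact (Nat.Prime 3) := ⟨Nat.prime_three⟩
  have hr5 : 5 ≤ r := by
    have h4 : r ≠ 4 := fun e => by rw [e] at hr; norm_num at hr
    have := hr.two_le
    omega
  have hc : c ≠ 0 := fun h => three_primes hG Nat.prime_two hr 2 d (by rw [hcard, h]; ring)
  have hd : d ≠ 0 := fun h => three_primes hG Nat.prime_two Nat.prime_three 2 c (by rw [hcard, h]; ring)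
  have hab2 : ∀ R : Sylow 2 G, ∀ x ∈ (R : Subgroup G), ∀ y ∈ (R : Subgroup G), x * y = y * x := by
    intro R x hx y hy
    have h4 : Nat.card (R : Subgroup G) = 2 ^ 2 := by
      rw [R.card_eq_multiplicity, hcard, mul_assoc, Nat.factorization_mul (by norm_num)
        (mul_ne_zero (pow_ne_zero _ (by norm_num)) (pow_ne_zero _ hr.ne_zero)), Finsupp.add_apply,
        show (4 : ℕ) = 2 ^ 2 from rfl, Nat.prime_two.factorization_pow, Finsupp.single_eq_same,
        Nat.factorization_eq_zero_of_not_dvd]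
      intro h
      rcases Nat.prime_two.dvd_mul.mp h with h | h
      · exact absurd (Nat.prime_two.dvd_of_dvd_pow h) (by norm_num)
      · exact hr2 ((Nat.prime_dvd_prime_iff_eq Nat.prime_two hr).mp (Nat.prime_two.dvd_of_dvd_pow h)).symm
    exact congrArg Subtype.val
      ((IsPGroup.isMulCommutative_of_card_eq_prime_sq (p := 2) h4).is_comm.comm
        (⟨x, hx⟩ : (R : Subgroup G)) ⟨y, hy⟩)
  obtain ⟨f, hf, hf4⟩ : ∃ f : IrrCharacter G, f ≠ Block.oneChar G ∧ deg f = 2 ^ 2 := by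
    rcases hcd with h | h
    · exact exists_deg_pow hG (a := c) (b := d) (c := 2) Nat.prime_three hr Nat.prime_two (Ne.symm hr3)
        (by norm_num) hr2 h (by rw [hcard]; ring) hab2
    · exact exists_deg_pow hG (a := d) (b := c) (c := 2) hr Nat.prime_three Nat.prime_two hr3
        hr2 (by norm_num) h (by rw [hcard]; ring) hab2
  by_cases h7 : 7 ≤ r
  · exact (no_large_prime hG hr h7 hd hcard hf hf4).elim
  have hr5' : r = 5 := by
    have h6 : r ≠ 6 := fun e => by rw [e] at hr; norm_num at hr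
    omega
  subst hr5'
  have habR : ∀ R : Sylow 5 G, ∀ x ∈ (R : Subgroup G), ∀ y ∈ (R : Subgroup G), x * y = y * x :=
    fun R => BlichfeldtPi.abelian_of_small (isCharacter_irr f) (faithful hf) (deg_eq f)
      (by rw [hf4]; norm_num) R R.2
  obtain ⟨g, -, hg5⟩ := exists_deg_pow hG (a := 2) (b := c) (c := d) Nat.prime_two Nat.prime_three
    Nat.prime_five (by norm_num) (by norm_num) (by norm_num) le_rfl (by rw [hcard]; ring) habR
  have hsq := deg_sq_le g
  rw [hg5, hcard, sq] at hsq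
  have hlt : 5 ^ d ≤ 4 * 3 ^ c := Nat.le_of_mul_le_mul_right hsq (by positivity)
  have hd2 : d ≤ 2 := by
    rcases hcd with h | h
    · by_contra hd3
      have h1 : 5 ^ 3 ≤ 5 ^ d := Nat.pow_le_pow_right (by norm_num) (by omega)
      have h2 : 3 ^ c ≤ 3 ^ 2 := Nat.pow_le_pow_right (by norm_num) h
      omega
    · exact h
  obtain ⟨h, hh, hh3⟩ := exists_deg_three hG hd2 hcard
  have hab3 : ∀ R : Sylow 3 G, ∀ x ∈ (R : Subgroup G), ∀ y ∈ (R : Subgroup G), x * y = y * x :=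
    fun R => abelian_of_deg_eq hG hh hh3 R R.2
  have hc1 : c = 1 := by
    obtain ⟨R⟩ := (inferInstance : Nonempty (Sylow 3 G))
    have h1 := card_dvd_degree hG R (hab3 R) hh (k := 1) (by rw [hh3, pow_one])
    rw [R.card_eq_multiplicity, hcard, Nat.factorization_mul (by positivity) (by positivity),
      Finsupp.add_apply, Nat.factorization_mul (by norm_num) (by positivity), Finsupp.add_apply,
      Nat.prime_three.factorization_pow, Finsupp.single_eq_same,
      Nat.factorization_eq_zero_of_not_dvd (by norm_num : ¬ 3 ∣ 4),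
      Nat.factorization_eq_zero_of_not_dvd (fun h => absurd
        (Nat.prime_three.dvd_of_dvd_pow h) (by norm_num) : ¬ 3 ∣ 5 ^ d), zero_add, add_zero] at h1
    have := (Nat.pow_dvd_pow_iff_le_right (by norm_num : 1 < 3)).mp h1
    omega
  subst hc1
  have hd1 : d = 1 := by interval_cases d <;> omega
  subst hd1
  rw [hcard]
  norm_num

end CfsgLib.Char.SmallCofactor
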