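import Cfsg.Agent.Lib.Char.SmallCofactor.Tools
import Cfsg.Agent.Lib.Char.FewSylow.QPower.Main
import Cfsg.Agent.Lib.Char.LinearSylowPSolvable
import Cfsg.Agent.Lib.PGroup.MaxPNilpotent
import Cfsg.Agent.Lib.Block.Cyclic.HalfBound

/-!
# Order `4 · 3ᶜ rᵈ` with a faithful degree four: `r ≥ 7` is impossible
-/

set_option autoImplicit false
set_option linter.unusedSectionVars false
set_option linter.style.haveILetI false

namespace CfsgLib.Char.SmallCofactor

open Cfsg CfsgLib.Char CfsgLib.Block CfsgLib.Char.FewSylow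

universe u

/-- Groups of order dividing `4 · 3ᶜ · 7` are soluble. -/
theorem solvable_of_dvd_seven (c : ℕ) : ∀ (K : Type u) [Group K] [Finite K],
    Nat.card K ∣ 4 * 3 ^ c * 7 → Group.IsSolvable K := by
  intro K _ _
  induction hn : Nat.card K using Nat.strong_induction_on generalizing K with
  | _ n ih =>
  subst hn
  intro hdvd
  rcases subsingleton_or_nontrivial K with hs | hnt
  · exact Group.isSolvable_of_comm fun a b => Subsingleton.elim _ _
  by_cases hex : ∃ N : Subgroup K, N.Normal ∧ N ≠ ⊥ ∧ N ≠ ⊤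
  · obtain ⟨N, hN, hb, ht⟩ := hex
    haveI := hN
    have hmul := N.card_mul_index
    have h1 : Nat.card N < Nat.card K := lt_of_le_of_ne (Subgroup.card_le_card_group N)
      fun e => ht (Subgroup.eq_top_of_card_eq N e)
    have h2 : Nat.card (K ⧸ N) < Nat.card K := by
      rw [← Subgroup.index_eq_card, ← hmul]
      have h3 : 1 < Nat.card N := (Subgroup.one_lt_card_iff_ne_bot N).mpr hb
      exact lt_mul_of_one_lt_left (Nat.pos_of_ne_zero Subgroup.index_ne_zero_of_finite) h3
    haveI := ih _ h1 N rfl ((Subgroup.card_subgroup_dvd_card N).trans hdvd)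
    haveI := ih _ h2 (K ⧸ N) rfl ((N.card_quotient_dvd_card).trans hdvd)
    exact solvable_of_ker_le_range N.subtype (QuotientGroup.mk' N) (by simp)
  · push Not at hex
    haveI : IsSimpleGroup K := ⟨fun N hN => (em (N = ⊥)).imp id (hex N hN)⟩
    by_cases hcyc : IsCyclic K
    · exact Group.isSolvable_of_comm fun a b => @IsCyclic.commGroup K _ hcyc |>.mul_comm a b
    exfalso
    haveI : Fact (Nat.Prime 7) := ⟨by norm_num⟩
    obtain ⟨x, z, hx, hz, hxz⟩ := Nat.dvd_mul.mp hdvd
    obtain ⟨u, v, hu, hv, huv⟩ := Nat.dvd_mul.mp hx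
    obtain ⟨i, hi, rfl⟩ := (Nat.dvd_prime_pow (m := 2) Nat.prime_two).mp (by norm_num; exact hu)
    obtain ⟨j, -, rfl⟩ := (Nat.dvd_prime_pow Nat.prime_three).mp hv
    rcases (Nat.dvd_prime (by norm_num : Nat.Prime 7)).mp hz with rfl | rfl
    · exact three_primes hcyc Nat.prime_two Nat.prime_three i j (by rw [← hxz, ← huv, mul_one])
    have hi2 : 2 ^ i ≤ 4 := le_trans (Nat.pow_le_pow_right two_pos hi) (by norm_num)
    obtain ⟨hC, -⟩ := QPower.classify hcyc (p := 7) (q := 3) (b := j) (g₀ := 2 ^ i) Nat.prime_three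
      (by norm_num) (by rw [← hxz, ← huv]; ring) (by omega)
    rcases hC with ⟨F, iF, iFF, hF, -, ⟨e⟩⟩ | ⟨m, F, iF, iFF, hF, hm, -, -⟩
    · have hc := CfsgLib.Classical.card_psl2 (F := F)
      rw [← Nat.card_congr e.toEquiv, hF] at hc
      have h168 : Nat.card K = 168 := by
        rw [show Nat.gcd 2 (7 - 1) = 2 from rfl] at hc
        omega
      rw [h168] at hdvd
      have h8 : 2 ^ 3 ∣ 4 * (3 ^ c * 7) := by rw [← mul_assoc]; exact (by norm_num : 2 ^ 3 ∣ 168).trans hdvd
      have h2 : 2 ∣ 3 ^ c * 7 := by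
        rw [show (4 : ℕ) = 2 ^ 2 from rfl, pow_succ] at h8
        exact (Nat.mul_dvd_mul_iff_left (by norm_num)).mp h8
      rcases Nat.prime_two.dvd_mul.mp h2 with h | h
      · exact absurd (Nat.prime_two.dvd_of_dvd_pow h) (by norm_num)
      · exact absurd h (by norm_num)
    · rcases m with _ | _ | _ | m <;> simp [pow_succ] at hm
      omega

/-- A prime `r ≥ 7` is impossible. -/
theorem no_large_prime {G : Type u} [Group G] [Finite G] [IsSimpleGroup G] (hG : ¬ IsCyclic G)
    {c d r : ℕ} (hr : r.Prime) (hr7 : 7 ≤ r) (hd : d ≠ 0)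
    (hcard : Nat.card G = 4 * 3 ^ c * r ^ d) {f : IrrCharacter G}
    (hf : f ≠ Block.oneChar G) (hdeg : deg f = 4) : False := by
  classical
  haveI : Fact r.Prime := ⟨hr⟩
  letI := Fintype.ofFinite G
  have hf1 : (f : G → ℂ) 1 = (4 : ℕ) := by rw [deg_eq, hdeg]
  have hsubK : ∀ K : Subgroup G, ¬ r ^ 2 ∣ Nat.card K → ∀ Q : Sylow r K, (Q : Subgroup K).Normal := by
    intro K hK Q
    have hres : IsCharacter K fun x : K => (f : G → ℂ) x :=
      isCharacter_comp (isCharacter_irr f) K.subtype
    have hfK : ∀ x : K, (f : G → ℂ) x = (f : G → ℂ) ((1 : K) : G) → x = 1 := fun x hx =>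
      Subtype.ext (faithful hf _ (by simpa using hx))
    by_cases h7 : r = 7
    · by_contra hQ
      subst h7
      have hdvd : Nat.card K ∣ 4 * 3 ^ c * 7 := by
        have h1 : Nat.card K ∣ 4 * 3 ^ c * 7 ^ d := hcard ▸ Subgroup.card_subgroup_dvd_card K
        obtain ⟨x, z, hx, hz, hxz⟩ := Nat.dvd_mul.mp h1
        obtain ⟨i, -, rfl⟩ := (Nat.dvd_prime_pow hr).mp hz
        rw [← hxz]
        refine mul_dvd_mul hx ?_
        rcases i with _ | _ | i
        · simp
        · simp
        · exact absurd (hxz ▸ dvd_mul_of_dvd_right (pow_dvd_pow 7 (by omega)) _) hK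
      have hsol := solvable_of_dvd_seven c K hdvd
      have h := LinearSylow.small_degree
        (CfsgLib.PGroup.MaxPNilpotent.isPSolvable_of_solvable hr _ K rfl hsol) hres hfK (n := 4)
        (by rw [OneMemClass.coe_one]; exact hf1) (by norm_num) Q hQ
      omega
    · by_cases hdK : r ∣ Nat.card K
      · obtain ⟨M, hM⟩ := CfsgLib.Block.exists_pModular hr
        haveI := hM.2.1
        refine CfsgLib.Block.Cyclic.normal_of_degree_lt_half hM _ K rfl hK _ hres hfK ?_ _ ?_
        · have : charDegree (fun x : K => (f : G → ℂ) x) = 4 := by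
            rw [charDegree, OneMemClass.coe_one, hf1, Complex.natCast_re, Nat.floor_natCast]
          rw [this]
          have h8 : r ≠ 8 := fun e => by rw [e] at hr; norm_num at hr
          have h9 : r ≠ 9 := fun e => by rw [e] at hr; norm_num at hr
          have h10 : r ≠ 10 := fun e => by rw [e] at hr; norm_num at hr
          omega
        · rw [Q.card_eq_multiplicity]
          have h1 := hr.factorization_pos_of_dvd Nat.card_pos.ne' hdK
          have h2 : ¬ 2 ≤ (Nat.card K).factorization r := fun h =>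
            hK ((hr.pow_dvd_iff_le_factorization Nat.card_pos.ne').mpr h)
          rw [show (Nat.card K).factorization r = 1 by omega, pow_one]
      · have : (Q : Subgroup K) = ⊥ := by
          rw [← Subgroup.card_eq_one, Q.card_eq_multiplicity,
            Nat.factorization_eq_zero_of_not_dvd hdK, pow_zero]
        rw [this]; infer_instance
  obtain ⟨P⟩ := (inferInstance : Nonempty (Sylow r G))
  have hn := FeitBlichfeldt.normal_sylow G _ 4 (isCharacter_irr f) (faithful hf) hf1
    (Or.inr ⟨by omega, hsubK⟩) P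
  rcases hn.eq_bot_or_eq_top with hb | ht
  · have hrG : r ∣ Nat.card G := hcard ▸ dvd_mul_of_dvd_right (dvd_pow_self r hd) _
    exact P.ne_bot_of_dvd_card hrG hb
  · obtain ⟨k, hk⟩ := IsPGroup.iff_card.mp P.2
    rw [ht, Subgroup.card_top] at hk
    exact three_primes hG hr hr k 0 (by rw [hk, pow_zero, mul_one])

end CfsgLib.Char.SmallCofactor
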