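import Cfsg.Agent.Lib.Char.SmallCofactor.Tools
import Cfsg.Agent.Lib.Char.FewSylow.QPower.Setup
import Cfsg.Agent.Lib.Block.Cyclic.SylowCount

/-!
# No simple group of order `3 p² 2ᵇ`
-/

set_option autoImplicit false
set_option linter.unusedSectionVars false
set_option linter.style.haveILetI false

namespace CfsgLib.Char.SmallCofactor

open Cfsg CfsgLib.Char CfsgLib.Block CfsgLib.Block.Cyclic CfsgLib.Char.FewSylow

universe u

theorem sq_pm_one {p j : ℕ} (hp : p.Prime) (hp5 : 5 ≤ p)
    (h : p ^ 2 = 2 ^ j + 1 ∨ p ^ 2 + 1 = 2 ^ j) : False := by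
  have h25 : 25 ≤ p ^ 2 := by nlinarith
  have hodd : p % 2 = 1 := hp.eq_two_or_odd.resolve_left (by omega)
  rcases h with h | h
  · have hm : (p - 1) * (p + 1) = 2 ^ j := by
      rw [mul_comm, ← Nat.sq_sub_sq]; omega
    obtain ⟨a, -, ha⟩ := (Nat.dvd_prime_pow Nat.prime_two).mp (hm ▸ dvd_mul_right (p - 1) (p + 1))
    obtain ⟨b, -, hb⟩ := (Nat.dvd_prime_pow Nat.prime_two).mp (hm ▸ dvd_mul_left (p + 1) (p - 1))
    have ha2 : 2 ≤ a := by
      by_contra h2
      interval_cases a <;> simp at ha <;> omega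
    have hb2 : 2 ≤ b := by
      by_contra h2
      interval_cases b <;> simp at hb <;> omega
    obtain ⟨u, hu⟩ := pow_dvd_pow 2 ha2
    obtain ⟨v, hv⟩ := pow_dvd_pow 2 hb2
    omega
  · have hj : 2 ≤ j := by
      by_contra h2
      interval_cases j <;> omega
    obtain ⟨u, hu⟩ := pow_dvd_pow 2 hj
    obtain ⟨v, hv⟩ : ∃ v, p = 2 * v + 1 := ⟨p / 2, by omega⟩
    subst hv
    have : (2 * v + 1) ^ 2 = 4 * (v * v + v) + 1 := by ring
    omega

/-- No simple group of order `3 p² 2ᵇ`. -/
theorem no_three_sq {G : Type u} [Group G] [Finite G] [IsSimpleGroup G] (hG : ¬ IsCyclic G)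
    {p b : ℕ} (hp : p.Prime) (hp5 : 5 ≤ p) (hcard : Nat.card G = 3 * p ^ 2 * 2 ^ b) : False := by
  classical
  letI := Fintype.ofFinite G
  haveI : Fact (Nat.Prime 3) := ⟨Nat.prime_three⟩
  haveI : Fact p.Prime := ⟨hp⟩
  have hperf := perfect_of_simple hG
  have hsq : ¬ 3 ^ 2 ∣ Nat.card G := by
    intro h
    rw [hcard, mul_assoc, sq, Nat.mul_dvd_mul_iff_left (by norm_num : 0 < 3)] at h
    rcases Nat.prime_three.dvd_mul.mp h with h | h
    · have := (Nat.prime_dvd_prime_iff_eq Nat.prime_three hp).mp (Nat.prime_three.dvd_of_dvd_pow h)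
      omega
    · exact absurd (Nat.prime_three.dvd_of_dvd_pow h) (by norm_num)
  obtain ⟨P⟩ := (inferInstance : Nonempty (Sylow 3 G))
  have hP : Nat.card (P : Subgroup G) = 3 := by
    rw [P.card_eq_multiplicity, factorization_eq_one (hcard ▸ dvd_mul_of_dvd_left
      (dvd_mul_right 3 _) _) hsq, pow_one]
  obtain ⟨D, hD⟩ := exists_cycSetup (Q := (P : Subgroup G)) hP hsq
  let D' := D.withChar (Block.oneChar D.K)
  let iK : Fintype D'.K := Fintype.ofFinite _
  let _ : Fintype (Subgroup.centralizer (D'.Q : Set G)) := Fintype.ofFinite _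
  haveI := Fintype.ofFinite (IrrCharacter G)
  have htriv : ∀ y, (D'.φ : D'.K → ℂ) y = 1 := fun _ => rfl
  obtain ⟨M, hM⟩ := CfsgLib.Block.exists_pModular Nat.prime_three
  haveI := hM.2.1
  have hBD := D'.blockData_principal hM (P := P) hD htriv
  obtain ⟨E⟩ := D'.exists_exceptional_family hM hBD
  have hle : Nat.card D'.expE ≤ 2 := by
    refine (Subgroup.card_le_card_group D'.expE).trans ?_
    rw [Nat.card_eq_fintype_card, ZMod.card_units_eq_totient, Nat.totient_prime Nat.prime_three]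
  have he : Nat.card D'.expE = 2 := by
    have h1 : Nat.card D'.expE ≠ 1 := by
      rw [D'.card_expE, D'.stab_eq_normalizer htriv, Ne, Subgroup.relIndex_eq_one]
      exact fun h1 => not_normalizer_le_centralizer hperf P hP (hD ▸ h1)
    have := Nat.card_pos (α := D'.expE)
    omega
  have htop : D'.expE = ⊤ := Subgroup.eq_top_of_card_eq _ (le_antisymm
    (Subgroup.card_le_card_group D'.expE) (by
      rw [he, Nat.card_eq_fintype_card, ZMod.card_units_eq_totient,
        Nat.totient_prime Nat.prime_three]))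
  have hu2 := E.card_u
  rw [he] at hu2
  obtain ⟨⟨a, ha⟩, ⟨c, hc⟩, hac, huniv⟩ := Nat.card_eq_two_iff.mp hu2
  have hac' : a ≠ c := fun h => hac (Subtype.ext h)
  have hU : ∀ χ : IrrCharacter G, E.u χ ≠ 0 → χ = a ∨ χ = c := by
    intro χ hχ
    have h := huniv ▸ Set.mem_univ (⟨χ, hχ⟩ : {χ : IrrCharacter G // E.u χ ≠ 0})
    rcases h with h | h
    · exact Or.inl (congrArg Subtype.val h)
    · exact Or.inr (congrArg Subtype.val h)
  set y := E.Y (1 : (ZMod 3)ˣ) with hy
  have hYone : ∀ k, E.Y k = y := fun k => by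
    obtain ⟨j, rfl⟩ := QuotientGroup.mk_surjective k
    exact congrArg E.Y (QuotientGroup.eq.mpr (by rw [htop]; trivial))
  have hay : a ≠ y := fun h => ha (h ▸ E.u_Y _)
  have hcy : c ≠ y := fun h => hc (h ▸ E.u_Y _)
  have hB : ∀ χ, χ ∈ principalBlock M G → χ = a ∨ χ = c ∨ χ = y := by
    intro χ hχ
    rcases (E.mem χ).mp hχ with h | ⟨k, rfl⟩
    · exact (hU χ h).imp_right Or.inl
    · exact Or.inr (Or.inr (hYone k))
  -- the degrees
  have hrel : E.u a * deg a + E.u c * deg c + E.δ * deg y = 0 := by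
    have h1 := D'.sum_vec_regular ((1 : (ZMod 3)ˣ) : ZMod 3) (g := 1) (by simp)
    simp only [val_one, E.vec_eq] at h1
    have h2 : ∑ χ : IrrCharacter G, (E.u χ + E.δ * (if χ = y then 1 else 0)) * (deg χ : ℤ) = 0 := by
      exact_mod_cast h1
    rw [← Finset.sum_subset (Finset.subset_univ ({a, c, y} : Finset (IrrCharacter G))) fun χ _ hχ => by
      simp only [Finset.mem_insert, Finset.mem_singleton, not_or] at hχ
      have : E.u χ = 0 := by
        by_contra h
        rcases hU χ h with e | e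
        · exact hχ.1 e
        · exact hχ.2.1 e
      rw [this, if_neg hχ.2.2]; ring] at h2
    rw [Finset.sum_insert (by simp [hac', hay]), Finset.sum_pair hcy, if_neg hay, if_neg hcy,
      if_pos rfl, show E.u y = 0 from E.u_Y _] at h2
    linarith
  have hua : E.u a = 1 ∨ E.u a = -1 := (E.u_cases a).resolve_left ha
  have huc : E.u c = 1 ∨ E.u c = -1 := (E.u_cases c).resolve_left hc
  have hm : ∀ χ ∈ principalBlock M G, deg χ ∣ p ^ 2 * 2 ^ b := by
    intro χ hχ
    have h1 : deg χ ∣ 3 * (p ^ 2 * 2 ^ b) := by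
      rw [← mul_assoc, ← hcard]; exact Block.charDegree_dvd χ
    exact ((Nat.prime_three.coprime_iff_not_dvd.mpr (D'.not_dvd_deg hM hBD hχ)).symm).dvd_of_dvd_mul_left h1
  have hone1 : deg (Block.oneChar G) = 1 := deg_one
  obtain ⟨f, g, hfB, hgB, hf, hg, hfg⟩ : ∃ f g : IrrCharacter G, f ∈ principalBlock M G ∧
      g ∈ principalBlock M G ∧ f ≠ Block.oneChar G ∧ g ≠ Block.oneChar G ∧
      (deg f + 1 = deg g ∨ deg g + 1 = deg f) := by
    have hmema : a ∈ principalBlock M G := (E.mem a).mpr (Or.inl ha)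
    have hmemc : c ∈ principalBlock M G := (E.mem c).mpr (Or.inl hc)
    have hmemy : y ∈ principalBlock M G := (E.mem y).mpr (Or.inr ⟨_, rfl⟩)
    have key : ∀ f g : IrrCharacter G, f ≠ Block.oneChar G → g ≠ Block.oneChar G →
        ∀ s t w : ℤ, (s = 1 ∨ s = -1) → (t = 1 ∨ t = -1) → (w = 1 ∨ w = -1) →
        s * (1 : ℕ) + t * deg f + w * deg g = 0 → deg f + 1 = deg g ∨ deg g + 1 = deg f := by
      intro f g hf hg s t w hs ht hw h
      have := one_lt_deg hG hf
      have := one_lt_deg hG hg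
      rcases hs with rfl | rfl <;> rcases ht with rfl | rfl <;> rcases hw with rfl | rfl <;>
        push_cast at h <;> omega
    rcases hB _ (one_mem_principalBlock (M := M)) with h | h | h
    · refine ⟨c, y, hmemc, hmemy, fun e => hac' (h.symm.trans e.symm), fun e => hay (h.symm.trans e.symm),
        key c y (fun e => hac' (h.symm.trans e.symm)) (fun e => hay (h.symm.trans e.symm)) _ _ _
          hua huc E.sign ?_⟩
      subst h
      rw [hone1] at hrel
      exact hrel
    · refine ⟨a, y, hmema, hmemy, fun e => hac' (e.trans h), fun e => hcy (h.symm.trans e.symm),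
        key a y (fun e => hac' (e.trans h)) (fun e => hcy (h.symm.trans e.symm)) _ _ _
          huc hua E.sign ?_⟩
      subst h
      rw [hone1] at hrel
      linarith
    · refine ⟨a, c, hmema, hmemc, fun e => hay (e.trans h), fun e => hcy (e.trans h),
        key a c (fun e => hay (e.trans h)) (fun e => hcy (e.trans h)) _ _ _
          E.sign hua huc ?_⟩
      rw [show deg y = 1 from by rw [← h, hone1]] at hrel
      linarith
  -- two consecutive degrees
  have hab : ∀ R : Sylow p G, ∀ x ∈ (R : Subgroup G), ∀ z ∈ (R : Subgroup G), x * z = z * x := by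
    intro R x hx z hz
    have hc : Nat.card (R : Subgroup G) = p ^ 2 := by
      rw [R.card_eq_multiplicity, hcard, Nat.factorization_mul (by positivity) (by positivity),
        Finsupp.add_apply, Nat.factorization_mul (by norm_num) (by positivity), Finsupp.add_apply,
        hp.factorization_pow, Finsupp.single_eq_same,
        Nat.factorization_eq_zero_of_not_dvd (n := 3) (p := p) (fun h => by
          have := Nat.le_of_dvd (by norm_num) h; omega),
        Nat.factorization_eq_zero_of_not_dvd (n := 2 ^ b) (p := p) (fun h => by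
          have := Nat.le_of_dvd (by norm_num) (hp.dvd_of_dvd_pow h); omega), zero_add, add_zero]
    exact congrArg Subtype.val
      ((IsPGroup.isMulCommutative_of_card_eq_prime_sq (p := p) hc).is_comm.comm
        (⟨x, hx⟩ : (R : Subgroup G)) ⟨z, hz⟩)
  obtain ⟨i, j, hi, hij⟩ : ∃ i j, i ≤ 2 ∧ deg f = p ^ i * 2 ^ j := by
    obtain ⟨x, z, hx, hz, hxz⟩ := Nat.dvd_mul.mp (hm f hfB)
    obtain ⟨i, hi, rfl⟩ := (Nat.dvd_prime_pow hp).mp hx
    obtain ⟨j, -, rfl⟩ := (Nat.dvd_prime_pow Nat.prime_two).mp hz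
    exact ⟨i, j, hi, hxz.symm⟩
  obtain ⟨k, l, hk, hkl⟩ : ∃ k l, k ≤ 2 ∧ deg g = p ^ k * 2 ^ l := by
    obtain ⟨x, z, hx, hz, hxz⟩ := Nat.dvd_mul.mp (hm g hgB)
    obtain ⟨i, hi, rfl⟩ := (Nat.dvd_prime_pow hp).mp hx
    obtain ⟨j, -, rfl⟩ := (Nat.dvd_prime_pow Nat.prime_two).mp hz
    exact ⟨i, j, hi, hxz.symm⟩
  -- the odd one is `p²`, the even one a power of two
  have main : ∀ (f g : IrrCharacter G) (i j k l : ℕ), f ≠ Block.oneChar G → i ≤ 2 →
      deg f = p ^ i * 2 ^ j → deg g = p ^ k * 2 ^ l → (deg f + 1 = deg g ∨ deg g + 1 = deg f) →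
      ¬ 2 ∣ deg f → False := by
    intro f g i j k l hf hi hij hkl hfg ho
    have hj : j = 0 := by
      by_contra h
      exact ho (hij ▸ dvd_mul_of_dvd_right (dvd_pow_self 2 h) _)
    rw [hj, pow_zero, mul_one] at hij
    have hi0 : i ≠ 0 := fun h => by
      have := one_lt_deg hG hf
      rw [hij, h, pow_zero] at this
      omega
    have hk : k = 0 := by
      by_contra h
      have h1 : p ∣ deg g := hkl ▸ dvd_mul_of_dvd_left (dvd_pow_self p h) _
      have h2 : p ∣ deg f := hij ▸ dvd_pow_self p hi0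
      have : p ∣ 1 := by
        rcases hfg with e | e
        · exact (Nat.dvd_add_right h2).mp (e ▸ h1)
        · exact (Nat.dvd_add_right h1).mp (e ▸ h2)
      exact hp.ne_one (Nat.dvd_one.mp this)
    rw [hk, pow_zero, one_mul] at hkl
    obtain ⟨R⟩ := (inferInstance : Nonempty (Sylow p G))
    have h1 := card_dvd_degree hG R (hab R) hf hij
    have h2 : p ^ 2 ∣ Nat.card R := R.pow_dvd_card_of_pow_dvd_card
      (hcard ▸ dvd_mul_of_dvd_left (dvd_mul_left _ _) _)
    have hi2 : i = 2 := le_antisymm hi ((Nat.pow_dvd_pow_iff_le_right hp.one_lt).mp (h2.trans h1))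
    rw [hi2] at hij
    rw [hij, hkl] at hfg
    exact sq_pm_one (j := l) hp hp5 (by omega)
  by_cases ho : 2 ∣ deg f
  · refine main g f k l i j hg hk hkl hij hfg.symm (fun h => ?_)
    rcases hfg with e | e <;> omega
  · exact main f g i j k l hf hi hij hkl hfg ho

end CfsgLib.Char.SmallCofactor
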